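import Mathlib

set_option autoImplicit false
set_option linter.unusedSectionVars false
set_option linter.unusedVariables false
set_option linter.unusedSimpArgs false
set_option linter.style.haveILetI false
set_option maxHeartbeats 800000
set_option synthInstance.maxHeartbeats 400000

/-!
# Quasi-homeomorphisms: `Opens.map f` bijective ⟹ `f_*`, `f^*` are equivalences on sheaves
-/

namespace Groth.Agent.Lib.Helper6.QHomeo

open CategoryTheory CategoryTheory.Limits TopologicalSpace Opposite

universe u w w'

variable {X₀ X : TopCat.{u}} (f : X₀ ⟶ X)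

lemma le_of_map_le (hf : Function.Injective (fun U : Opens X => (Opens.map f).obj U))
    {U V : Opens X} (h : (Opens.map f).obj U ≤ (Opens.map f).obj V) : U ≤ V := by
  have h1 : (Opens.map f).obj (U ⊓ V) = (Opens.map f).obj U := by
    apply le_antisymm
    · intro x hx
      exact (Opens.mem_inf.mp (Opens.mem_map.mp hx)).1
    · intro x hx
      exact Opens.mem_map.mpr (Opens.mem_inf.mpr ⟨Opens.mem_map.mp hx, Opens.mem_map.mp (h hx)⟩)
  have h2 : U ⊓ V = U := hf h1
  rw [← h2]
  exact inf_le_right

lemma full_map (hf : Function.Injective (fun U : Opens X => (Opens.map f).obj U)) :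
    (Opens.map f).Full :=
  ⟨fun g => ⟨homOfLE (le_of_map_le f hf g.le), Subsingleton.elim _ _⟩⟩

lemma faithful_map : (Opens.map f).Faithful :=
  ⟨fun _ => Subsingleton.elim _ _⟩

lemma isCoverDense_map (hf : Function.Surjective (fun U : Opens X => (Opens.map f).obj U)) :
    (Opens.map f).IsCoverDense (Opens.grothendieckTopology X₀) where
  is_cover W := by
    obtain ⟨U, hU⟩ := hf W
    have hU' : (Opens.map f).obj U = W := hU
    refine (Opens.grothendieckTopology X₀).superset_covering ?_
      ((Opens.grothendieckTopology X₀).top_mem W)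
    intro V g _
    exact ⟨⟨U, g ≫ eqToHom hU'.symm, eqToHom hU', by simp⟩⟩

lemma functorPushforward_mem_iff_map
    (hf : Function.Injective (fun U : Opens X => (Opens.map f).obj U))
    {U : Opens X} {S : Sieve U} :
    S.functorPushforward (Opens.map f) ∈
        Opens.grothendieckTopology X₀ ((Opens.map f).obj U) ↔
      S ∈ Opens.grothendieckTopology X U := by
  constructor
  · intro H
    have H' := (_root_.Opens.mem_grothendieckTopology _).mp H
    obtain ⟨U', hU'⟩ : ∃ U' : Opens X, U' = sSup {V : Opens X | ∃ g : V ⟶ U, S.arrows g} :=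
      ⟨_, rfl⟩
    have hmap : (Opens.map f).obj U ≤ (Opens.map f).obj U' := by
      intro x hx
      obtain ⟨W, g, ⟨Z, h, k, hS, _⟩, hxW⟩ := H' x hx
      have hxZ : f.hom x ∈ Z := Opens.mem_map.mp (k.le hxW)
      refine Opens.mem_map.mpr ?_
      rw [hU']
      exact Opens.mem_sSup.mpr ⟨Z, ⟨h, hS⟩, hxZ⟩
    have hUU' : U ≤ U' := le_of_map_le f hf hmap
    refine (_root_.Opens.mem_grothendieckTopology _).mpr ?_
    intro x hx
    have hx' := hUU' hx
    rw [hU'] at hx'
    obtain ⟨V, ⟨g, hg⟩, hxV⟩ := Opens.mem_sSup.mp hx'
    exact ⟨V, g, hg, hxV⟩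
  · intro H
    have H' := (_root_.Opens.mem_grothendieckTopology _).mp H
    refine (_root_.Opens.mem_grothendieckTopology _).mpr ?_
    intro x hx
    obtain ⟨V, g, hg, hxV⟩ := H' (f.hom x) (Opens.mem_map.mp hx)
    exact ⟨(Opens.map f).obj V, (Opens.map f).map g, ⟨V, g, 𝟙 _, hg, by simp⟩,
      Opens.mem_map.mpr hxV⟩

theorem isDenseSubsite_map
    (hf : Function.Bijective (fun U : Opens X => (Opens.map f).obj U)) :
    (Opens.map f).IsDenseSubsite (Opens.grothendieckTopology X)
      (Opens.grothendieckTopology X₀) := by
  haveI := full_map f hf.1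
  haveI := faithful_map f
  haveI := isCoverDense_map f hf.2
  exact { functorPushforward_mem_iff := functorPushforward_mem_iff_map f hf.1 }

theorem pushforward_isEquivalence_of_bijective
    (A : Type w) [Category.{w'} A] [HasLimitsOfSize.{u, u} A]
    (hf : Function.Bijective (fun U : Opens X => (Opens.map f).obj U)) :
    (TopCat.Sheaf.pushforward A f).IsEquivalence := by
  haveI := isDenseSubsite_map f hf
  haveI : ∀ Y, HasLimitsOfShape (StructuredArrow Y (Opens.map f).op) A := fun _ => inferInstance
  exact Functor.IsDenseSubsite.instIsEquivalenceSheafSheafPushforwardContinuous (Opens.map f)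
    (Opens.grothendieckTopology X) (Opens.grothendieckTopology X₀)

theorem pullback_isEquivalence_of_bijective
    (A : Type w) [Category.{u} A] {FA : A → A → Type*} {CA : A → Type u}
    [∀ X Y, FunLike (FA X Y) (CA X) (CA Y)] [ConcreteCategory.{u} A FA] [HasColimits A]
    [HasLimits A] [PreservesLimits (CategoryTheory.forget A)]
    [PreservesFilteredColimits (CategoryTheory.forget A)]
    [(CategoryTheory.forget A).ReflectsIsomorphisms]
    (hf : Function.Bijective (fun U : Opens X => (Opens.map f).obj U)) :
    (TopCat.Sheaf.pullback A f).IsEquivalence := by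
  haveI := pushforward_isEquivalence_of_bijective f A hf
  exact (TopCat.Sheaf.pullbackPushforwardAdjunction A f).isEquivalence_left_of_isEquivalence_right

end Groth.Agent.Lib.Helper6.QHomeo
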