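import Mathlib

set_option autoImplicit false
set_option linter.unusedSectionVars false
set_option linter.unusedVariables false
set_option linter.unusedSimpArgs false
set_option linter.style.haveILetI false
set_option maxHeartbeats 800000
set_option synthInstance.maxHeartbeats 400000

/-!
# Quasi-homeomorphisms: `f_*` an equivalence on sheaves ⟹ `Opens.map f` bijective
(core lemmas, uniform in the concrete value category)
-/

namespace Groth.Agent.Lib.Helper6.QHomeo

open CategoryTheory CategoryTheory.Limits TopologicalSpace Opposite TopCat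
open StalkSkyscraperPresheafAdjunctionAuxs

universe u v

section Inj

variable {C : Type v} [Category.{u} C] [HasTerminal C]
variable {X₀ X : TopCat.{u}} (f : X₀ ⟶ X)

open Classical in
theorem injective_of_essSurj (A : C) (hA : IsTerminal A → False)
    [(TopCat.Sheaf.pushforward C f).EssSurj] :
    Function.Injective (fun U : Opens X => (Opens.map f).obj U) := by
  have key : ∀ U V : Opens X, (Opens.map f).obj U = (Opens.map f).obj V → U ≤ V := by
    intro U V h x hxU
    by_contra hxV
    obtain ⟨G, ⟨e⟩⟩ : ∃ G : X₀.Sheaf C,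
        Nonempty ((TopCat.Sheaf.pushforward C f).obj G ≅ skyscraperSheaf x A) :=
      ⟨_, ⟨(TopCat.Sheaf.pushforward C f).objObjPreimageIso (skyscraperSheaf x A)⟩⟩
    have e' : (TopCat.Presheaf.pushforward C f).obj G.obj ≅ skyscraperPresheaf x A :=
      (TopCat.Sheaf.forget C X).mapIso e
    have iU : (skyscraperPresheaf x A).obj (op U) ≅ G.obj.obj (op ((Opens.map f).obj U)) :=
      (e'.app (op U)).symm
    have iV : G.obj.obj (op ((Opens.map f).obj V)) ≅ (skyscraperPresheaf x A).obj (op V) :=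
      e'.app (op V)
    have i1 : A ≅ (skyscraperPresheaf x A).obj (op U) := eqToIso (if_pos hxU).symm
    have i2 : G.obj.obj (op ((Opens.map f).obj U)) ≅ G.obj.obj (op ((Opens.map f).obj V)) :=
      eqToIso (by rw [h])
    have hT : IsTerminal ((skyscraperPresheaf x A).obj (op V)) :=
      IsTerminal.ofIso terminalIsTerminal (eqToIso (if_neg hxV).symm)
    exact hA (hT.ofIso (i1 ≪≫ iU ≪≫ i2 ≪≫ iV).symm)
  intro U V h
  exact le_antisymm (key U V h) (key V U h.symm)

end Inj

section Surj

variable {C : Type v} [Category.{u} C] {FC : C → C → Type*} {CC : C → Type u}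
variable [∀ X Y, FunLike (FC X Y) (CC X) (CC Y)] [ConcreteCategory.{u} C FC]
variable [HasColimits C] [HasTerminal C] [PreservesFilteredColimits (forget C)]

open Classical in
lemma sky_const {X₀ : TopCat.{u}} (G : X₀.Presheaf C) (W : Opens X₀)
    (hsub : ∀ W' : Opens X₀, W' ≤ W → Subsingleton (ToType (G.obj (op W'))))
    (y : X₀) (hy : y ∈ W) (A : C) (θ : G ⟶ skyscraperPresheaf y A)
    (W' : Opens X₀) (hyW' : y ∈ W') (t t' : ToType (G.obj (op W'))) :
    θ.app (op W') t = θ.app (op W') t' := by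
  have hy'' : y ∈ W' ⊓ W := ⟨hyW', hy⟩
  have hnat := θ.naturality (homOfLE (inf_le_left : W' ⊓ W ≤ W')).op
  haveI := hsub (W' ⊓ W) inf_le_right
  have e1 := ConcreteCategory.congr_hom hnat t
  have e2 := ConcreteCategory.congr_hom hnat t'
  rw [ConcreteCategory.comp_apply, ConcreteCategory.comp_apply] at e1 e2
  have h1 : (skyscraperPresheaf y A).map (homOfLE (inf_le_left : W' ⊓ W ≤ W')).op
        (θ.app (op W') t)
      = (skyscraperPresheaf y A).map (homOfLE (inf_le_left : W' ⊓ W ≤ W')).op
        (θ.app (op W') t') :=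
    e1.symm.trans ((congrArg _ (Subsingleton.elim _ _)).trans e2)
  haveI : IsIso ((skyscraperPresheaf y A).map (homOfLE (inf_le_left : W' ⊓ W ≤ W')).op) := by
    rw [skyscraperPresheaf_map, dif_pos hy'']
    exact CategoryTheory.instIsIsoEqToHom _
  exact (ConcreteCategory.bijective_of_isIso _).1 h1

open Classical in
lemma germ_comp_eq {X : TopCat.{u}} (P : X.Presheaf C) (x : X) (A : C) (g : P.stalk x ⟶ A)
    (V : Opens X) (hx : x ∈ V) :
    P.germ V x hx ≫ g = (toSkyscraperPresheaf x g).app (op V) ≫ eqToHom (if_pos hx) := by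
  rw [← germ_fromStalk, fromStalk_to_skyscraper]

variable {X₀ X : TopCat.{u}} (f : X₀ ⟶ X)

open Classical in
lemma germ_const [(TopCat.Sheaf.pushforward C f).Full]
    (G : X₀.Sheaf C) (W : Opens X₀)
    (hsub : ∀ W' : Opens X₀, W' ≤ W → Subsingleton (ToType (G.obj.obj (op W'))))
    (y : X₀) (hy : y ∈ W)
    (A : C) (g : ((TopCat.Presheaf.pushforward C f).obj G.obj).stalk (f y) ⟶ A)
    (V : Opens X) (hV : f y ∈ V)
    (t t' : ToType (G.obj.obj (op ((Opens.map f).obj V)))) :
    g (((TopCat.Presheaf.pushforward C f).obj G.obj).germ V (f y) hV t)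
      = g (((TopCat.Presheaf.pushforward C f).obj G.obj).germ V (f y) hV t') := by
  obtain ⟨θ, hθ⟩ := (TopCat.Sheaf.pushforward C f).map_surjective
    (ObjectProperty.homMk (toSkyscraperPresheaf (f y) g) :
      (TopCat.Sheaf.pushforward C f).obj G ⟶
        (TopCat.Sheaf.pushforward C f).obj (skyscraperSheaf y A))
  have h1 : θ.hom.app (op ((Opens.map f).obj V)) = (toSkyscraperPresheaf (f y) g).app (op V) :=
    congrArg (fun φ => φ.hom.app (op V)) hθ
  have h2 := germ_comp_eq ((TopCat.Presheaf.pushforward C f).obj G.obj) (f y) A g V hV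
  have e1 := ConcreteCategory.congr_hom h2 t
  have e2 := ConcreteCategory.congr_hom h2 t'
  rw [ConcreteCategory.comp_apply, ConcreteCategory.comp_apply] at e1 e2
  have h3 : (toSkyscraperPresheaf (f y) g).app (op V) t
      = (toSkyscraperPresheaf (f y) g).app (op V) t' :=
    (ConcreteCategory.congr_hom h1 t).symm.trans
      ((sky_const G.obj W hsub y hy A θ.hom _ hV t t').trans (ConcreteCategory.congr_hom h1 t'))
  exact e1.trans ((congrArg _ h3).trans e2.symm)

theorem exists_nhd_of_full [(TopCat.Sheaf.pushforward C f).Full]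
    (G : X₀.Sheaf C) (W : Opens X₀)
    (hsub : ∀ W' : Opens X₀, W' ≤ W → Subsingleton (ToType (G.obj.obj (op W'))))
    (s s' : ToType (G.obj.obj (op ((Opens.map f).obj ⊤))))
    (hss' : ∀ (U : Opens X) (i : (Opens.map f).obj U ⟶ (Opens.map f).obj ⊤),
      G.obj.map i.op s = G.obj.map i.op s' → (Opens.map f).obj U ≤ W)
    (y : X₀) (hy : y ∈ W) :
    ∃ U : Opens X, f y ∈ U ∧ (Opens.map f).obj U ≤ W := by
  have h := germ_const f G W hsub y hy _ (𝟙 _) ⊤ (Opens.mem_top _) s s'
  rw [ConcreteCategory.id_apply, ConcreteCategory.id_apply] at h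
  obtain ⟨U, hU, iU, iV, e⟩ := TopCat.Presheaf.germ_eq
    ((TopCat.Presheaf.pushforward C f).obj G.obj) (f y) (Opens.mem_top _)
    (Opens.mem_top _) s s' h
  refine ⟨U, hU, hss' U ((Opens.map f).map iU) ?_⟩
  rw [Subsingleton.elim iV iU] at e
  exact e

theorem surjective_of_full [(TopCat.Sheaf.pushforward C f).Full]
    (hG : ∀ W : Opens X₀, ∃ (G : X₀.Sheaf C)
      (s s' : ToType (G.obj.obj (op ((Opens.map f).obj ⊤)))),
      (∀ W' : Opens X₀, W' ≤ W → Subsingleton (ToType (G.obj.obj (op W')))) ∧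
      (∀ (U : Opens X) (i : (Opens.map f).obj U ⟶ (Opens.map f).obj ⊤),
        G.obj.map i.op s = G.obj.map i.op s' → (Opens.map f).obj U ≤ W)) :
    Function.Surjective (fun U : Opens X => (Opens.map f).obj U) := by
  intro W
  obtain ⟨G, s, s', hsub, hss'⟩ := hG W
  refine ⟨sSup {U : Opens X | (Opens.map f).obj U ≤ W}, ?_⟩
  show (Opens.map f).obj (sSup {U : Opens X | (Opens.map f).obj U ≤ W}) = W
  apply le_antisymm
  · intro x hx
    obtain ⟨U, hU, hxU⟩ := Opens.mem_sSup.mp (Opens.mem_map.mp hx)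
    exact hU (Opens.mem_map.mpr hxU)
  · intro y hy
    obtain ⟨U, hyU, hUW⟩ := exists_nhd_of_full f G W hsub s s' hss' y hy
    exact Opens.mem_map.mpr (Opens.mem_sSup.mpr ⟨U, hUW, hyU⟩)

end Surj

end Groth.Agent.Lib.Helper6.QHomeo
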