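import Mathlib
import Groth.Agent.Lib.Helper6.QHomeo.QH1
import Groth.Agent.Lib.Helper6.QHomeo.QH2

set_option autoImplicit false
set_option linter.unusedSectionVars false
set_option linter.unusedVariables false
set_option linter.unusedSimpArgs false
set_option linter.style.haveILetI false
set_option maxHeartbeats 800000
set_option synthInstance.maxHeartbeats 400000

/-!
# Quasi-homeomorphisms: the TFAE
-/

namespace Groth.Agent.Lib.Helper6.QHomeo

open CategoryTheory CategoryTheory.Limits TopologicalSpace Opposite TopCat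

universe u

variable {X₀ X : TopCat.{u}}

/-- Type-valued presheaf of `ℤ`-valued functions on the part of an open set outside `W`. -/
def fnTy (W : Opens X₀) : X₀.Presheaf (Type u) where
  obj W' := ({c : X₀ // c ∈ W'.unop ∧ c ∉ W} → ℤ)
  map {W₁ W₂} i := TypeCat.ofHom (fun t c => t ⟨c.1, i.unop.le c.2.1, c.2.2⟩)
  map_id _ := rfl
  map_comp _ _ := rfl

lemma fnTy_isSheaf (W : Opens X₀) : (fnTy W).IsSheaf := by
  apply TopCat.Presheaf.isSheaf_of_isSheafUniqueGluing_types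
  intro ι U sf hsf
  have hcompat : ∀ i j (c : X₀) (hi : c ∈ U i) (hj : c ∈ U j) (hW : c ∉ W),
      (sf i : {c : X₀ // c ∈ U i ∧ c ∉ W} → ℤ) ⟨c, hi, hW⟩
        = (sf j : {c : X₀ // c ∈ U j ∧ c ∉ W} → ℤ) ⟨c, hj, hW⟩ := by
    intro i j c hi hj hW
    have h : (fun c' : {c : X₀ // c ∈ U i ⊓ U j ∧ c ∉ W} =>
          (sf i : {c : X₀ // c ∈ U i ∧ c ∉ W} → ℤ) ⟨c'.1, c'.2.1.1, c'.2.2⟩)
        = (fun c' : {c : X₀ // c ∈ U i ⊓ U j ∧ c ∉ W} =>
          (sf j : {c : X₀ // c ∈ U j ∧ c ∉ W} → ℤ) ⟨c'.1, c'.2.1.2, c'.2.2⟩) := hsf i j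
    exact congrFun h ⟨c, ⟨hi, hj⟩, hW⟩
  refine ⟨(fun c => (sf (Classical.choose (Opens.mem_iSup.mp c.2.1)) :
      {c' : X₀ // c' ∈ U (Classical.choose (Opens.mem_iSup.mp c.2.1)) ∧ c' ∉ W} → ℤ)
      ⟨c.1, Classical.choose_spec (Opens.mem_iSup.mp c.2.1), c.2.2⟩ :
      {c : X₀ // c ∈ iSup U ∧ c ∉ W} → ℤ), ?_, ?_⟩
  · intro i
    show (fun c' : {c : X₀ // c ∈ U i ∧ c ∉ W} => _) = (sf i : {c : X₀ // c ∈ U i ∧ c ∉ W} → ℤ)
    funext c
    exact hcompat (Classical.choose (Opens.mem_iSup.mp (Opens.mem_iSup.mpr ⟨i, c.2.1⟩))) i c.1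
      (Classical.choose_spec (Opens.mem_iSup.mp (Opens.mem_iSup.mpr ⟨i, c.2.1⟩))) c.2.1 c.2.2
  · intro s' hs'
    have hs'' : ∀ i, (fun c' : {c : X₀ // c ∈ U i ∧ c ∉ W} =>
          (s' : {c : X₀ // c ∈ iSup U ∧ c ∉ W} → ℤ)
            ⟨c'.1, Opens.mem_iSup.mpr ⟨i, c'.2.1⟩, c'.2.2⟩)
        = (sf i : {c : X₀ // c ∈ U i ∧ c ∉ W} → ℤ) := fun i => hs' i
    show (s' : {c : X₀ // c ∈ iSup U ∧ c ∉ W} → ℤ) = _
    funext c
    exact congrFun (hs'' (Classical.choose (Opens.mem_iSup.mp c.2.1)))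
      ⟨c.1, Classical.choose_spec (Opens.mem_iSup.mp c.2.1), c.2.2⟩

/-- `AddCommGrpCat`-valued presheaf of `ℤ`-valued functions on the part of an open set
outside `W`. -/
def fnAb (W : Opens X₀) : X₀.Presheaf AddCommGrpCat.{u} where
  obj W' := AddCommGrpCat.of ({c : X₀ // c ∈ W'.unop ∧ c ∉ W} → ℤ)
  map {W₁ W₂} i := AddCommGrpCat.ofHom
    { toFun := fun t c => t ⟨c.1, i.unop.le c.2.1, c.2.2⟩
      map_zero' := rfl
      map_add' := fun _ _ => rfl }
  map_id _ := rfl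
  map_comp _ _ := rfl

lemma fnAb_isSheaf (W : Opens X₀) : (fnAb W).IsSheaf :=
  (TopCat.Presheaf.isSheaf_iff_isSheaf_comp' (forget AddCommGrpCat.{u}) (fnAb W)).mpr
    (fnTy_isSheaf W)

variable (f : X₀ ⟶ X)

lemma hG_type (W : Opens X₀) : ∃ (G : X₀.Sheaf (Type u))
      (s s' : ToType (G.obj.obj (op ((Opens.map f).obj ⊤)))),
      (∀ W' : Opens X₀, W' ≤ W → Subsingleton (ToType (G.obj.obj (op W')))) ∧
      (∀ (U : Opens X) (i : (Opens.map f).obj U ⟶ (Opens.map f).obj ⊤),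
        G.obj.map i.op s = G.obj.map i.op s' → (Opens.map f).obj U ≤ W) := by
  refine ⟨⟨fnTy W, fnTy_isSheaf W⟩,
    (fun _ => 1 : {c : X₀ // c ∈ (Opens.map f).obj ⊤ ∧ c ∉ W} → ℤ),
    (fun _ => 0 : {c : X₀ // c ∈ (Opens.map f).obj ⊤ ∧ c ∉ W} → ℤ), ?_, ?_⟩
  · intro W' hW'
    show Subsingleton ({c : X₀ // c ∈ W' ∧ c ∉ W} → ℤ)
    haveI : IsEmpty {c : X₀ // c ∈ W' ∧ c ∉ W} := ⟨fun c => c.2.2 (hW' c.2.1)⟩
    infer_instance
  · intro U i h x hx
    by_contra hxW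
    have h' : (fun _ : {c : X₀ // c ∈ (Opens.map f).obj U ∧ c ∉ W} => (1 : ℤ))
        = (fun _ => (0 : ℤ)) := h
    exact one_ne_zero (congrFun h' ⟨x, hx, hxW⟩)

lemma hG_ab (W : Opens X₀) : ∃ (G : X₀.Sheaf AddCommGrpCat.{u})
      (s s' : ToType (G.obj.obj (op ((Opens.map f).obj ⊤)))),
      (∀ W' : Opens X₀, W' ≤ W → Subsingleton (ToType (G.obj.obj (op W')))) ∧
      (∀ (U : Opens X) (i : (Opens.map f).obj U ⟶ (Opens.map f).obj ⊤),
        G.obj.map i.op s = G.obj.map i.op s' → (Opens.map f).obj U ≤ W) := by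
  refine ⟨⟨fnAb W, fnAb_isSheaf W⟩,
    (fun _ => 1 : {c : X₀ // c ∈ (Opens.map f).obj ⊤ ∧ c ∉ W} → ℤ),
    (fun _ => 0 : {c : X₀ // c ∈ (Opens.map f).obj ⊤ ∧ c ∉ W} → ℤ), ?_, ?_⟩
  · intro W' hW'
    show Subsingleton ({c : X₀ // c ∈ W' ∧ c ∉ W} → ℤ)
    haveI : IsEmpty {c : X₀ // c ∈ W' ∧ c ∉ W} := ⟨fun c => c.2.2 (hW' c.2.1)⟩
    infer_instance
  · intro U i h x hx
    by_contra hxW
    have h' : (fun _ : {c : X₀ // c ∈ (Opens.map f).obj U ∧ c ∉ W} => (1 : ℤ))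
        = (fun _ => (0 : ℤ)) := h
    exact one_ne_zero (congrFun h' ⟨x, hx, hxW⟩)

lemma not_isTerminal_type (hT : IsTerminal (ULift.{u} Bool)) : False := by
  have h := hT.hom_ext (TypeCat.ofHom (fun _ : PUnit.{u + 1} => (ULift.up true : ULift.{u} Bool)))
    (TypeCat.ofHom (fun _ => ULift.up false))
  have h2 := ConcreteCategory.congr_hom h PUnit.unit
  have h3 : true = false := congrArg ULift.down h2
  exact Bool.noConfusion h3

lemma not_isTerminal_ab (hT : IsTerminal (AddCommGrpCat.of (ULift.{u} ℤ))) : False := by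
  have h := hT.hom_ext (𝟙 (AddCommGrpCat.of (ULift.{u} ℤ))) 0
  have h2 := ConcreteCategory.congr_hom h (ULift.up 1)
  have h3 : (ULift.up 1 : ULift.{u} ℤ) = 0 := h2
  have h4 : (1 : ℤ) = 0 := congrArg ULift.down h3
  exact one_ne_zero h4

theorem bijective_of_isEquivalence_type
    (h : (TopCat.Sheaf.pullback (Type u) f).IsEquivalence) :
    Function.Bijective (fun U : Opens X => (Opens.map f).obj U) := by
  haveI := h
  haveI : (TopCat.Sheaf.pushforward (Type u) f).IsEquivalence :=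
    (TopCat.Sheaf.pullbackPushforwardAdjunction (Type u) f).isEquivalence_right_of_isEquivalence_left
  exact ⟨injective_of_essSurj f (ULift.{u} Bool) not_isTerminal_type,
    surjective_of_full f (hG_type f)⟩

theorem bijective_of_isEquivalence_ab
    (h : (TopCat.Sheaf.pullback AddCommGrpCat.{u} f).IsEquivalence) :
    Function.Bijective (fun U : Opens X => (Opens.map f).obj U) := by
  haveI := h
  haveI : (TopCat.Sheaf.pushforward AddCommGrpCat.{u} f).IsEquivalence :=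
    (TopCat.Sheaf.pullbackPushforwardAdjunction AddCommGrpCat.{u}
      f).isEquivalence_right_of_isEquivalence_left
  exact ⟨injective_of_essSurj f (AddCommGrpCat.of (ULift.{u} ℤ)) not_isTerminal_ab,
    surjective_of_full f (hG_ab f)⟩

theorem main5917 (X₀ X : TopCat.{u}) (f : X₀ ⟶ X) :
    [Function.Bijective (fun U : TopologicalSpace.Opens X => (TopologicalSpace.Opens.map f).obj U),
      (TopCat.Sheaf.pullback (Type u) f).IsEquivalence,
      (TopCat.Sheaf.pullback AddCommGrpCat.{u} f).IsEquivalence].TFAE := by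
  tfae_have 1 → 2 := fun h => pullback_isEquivalence_of_bijective f (Type u) h
  tfae_have 1 → 3 := fun h => pullback_isEquivalence_of_bijective f AddCommGrpCat.{u} h
  tfae_have 2 → 1 := bijective_of_isEquivalence_type f
  tfae_have 3 → 1 := bijective_of_isEquivalence_ab f
  tfae_finish

end Groth.Agent.Lib.Helper6.QHomeo
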